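import Mathlib.AlgebraicGeometry.Morphisms.Proper
import Mathlib.AlgebraicGeometry.Morphisms.Immersion
import Mathlib.CategoryTheory.Localization.CalculusOfFractions
import Groth.Prelude.Def_W4stkflatp2Cpct

/-!
# The category of compactifications: calculus of right fractions
-/

set_option autoImplicit false
universe u
open CategoryTheory CategoryTheory.Limits AlgebraicGeometry

namespace K576.Calc

open Cpct

variable {S : Scheme.{u}}

/-- the underlying morphism of schemes -/
noncomputable abbrev sch {A B : Pair S} (f : A ⟶ B) : A.bar.left ⟶ B.bar.left := (Pair.Hom.bar f).left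

@[reassoc]
theorem restr_ι {A B : Pair S} (f : A ⟶ B) : restr f ≫ B.U.ι = A.U.ι ≫ sch f :=
  Scheme.Hom.resLE_comp_ι _ _

theorem sch_w {A B : Pair S} (f : A ⟶ B) : sch f ≫ B.bar.hom = A.bar.hom := Over.w _

theorem sch_comp {A B C : Pair S} (f : A ⟶ B) (g : B ⟶ C) : sch (f ≫ g) = sch f ≫ sch g := rfl

theorem sch_id (A : Pair S) : sch (𝟙 A) = 𝟙 _ := rfl

theorem hom_ext {A B : Pair S} {f g : A ⟶ B} (h : sch f = sch g) : f = g := by
  apply Pair.Hom.ext
  ext1
  exact h

theorem restr_comp {A B C : Pair S} (f : A ⟶ B) (g : B ⟶ C) :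
    restr (f ≫ g) = restr f ≫ restr g := by
  rw [← cancel_mono C.U.ι, restr_ι, Category.assoc, restr_ι, restr_ι_assoc, sch_comp]

theorem restr_id (A : Pair S) : restr (𝟙 A) = 𝟙 _ := by
  rw [← cancel_mono A.U.ι, restr_ι, Category.id_comp, sch_id, Category.comp_id]

/-- make a morphism of pairs. -/
def mkHom {A B : Pair S} (f : A.bar.left ⟶ B.bar.left) (hf : f ≫ B.bar.hom = A.bar.hom)
    (hU : ∀ x, x ∈ A.U → f.base x ∈ B.U) : A ⟶ B where
  bar := Over.homMk f hf
  le := hU

theorem sch_mkHom {A B : Pair S} (f : A.bar.left ⟶ B.bar.left) (hf : f ≫ B.bar.hom = A.bar.hom)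
    (hU : ∀ x, x ∈ A.U → f.base x ∈ B.U) : sch (mkHom f hf hU) = f := rfl

theorem isoOpen_iff {A B : Pair S} (f : A ⟶ B) : isoOpen S f ↔ IsIso (restr f) := Iff.rfl

/-- Criterion for a morphism to belong to `isoOpen`: it has a section over the open part, and
it is enough to check the other identity in `A.bar`. -/
theorem isoOpen_of_section {A B : Pair S} (f : A ⟶ B) (t : (B.U : Scheme.{u}) ⟶ A.bar.left)
    (ht : t ≫ sch f = B.U.ι) (htU : ∀ x, t.base x ∈ A.U) (h2 : restr f ≫ t = A.U.ι) :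
    isoOpen S f := by
  have hr : Set.range t.base ⊆ Set.range A.U.ι.base := by
    rintro _ ⟨x, rfl⟩
    rw [Scheme.Opens.range_ι]
    exact htU x
  let t' : (B.U : Scheme.{u}) ⟶ (A.U : Scheme.{u}) := IsOpenImmersion.lift A.U.ι t hr
  have ht' : t' ≫ A.U.ι = t := IsOpenImmersion.lift_fac _ _ _
  refine ⟨t', ?_, ?_⟩
  · rw [← cancel_mono A.U.ι, Category.assoc, ht', h2, Category.id_comp]
  · rw [← cancel_mono B.U.ι, Category.assoc, restr_ι, ← Category.assoc, ht', ht, Category.id_comp]

theorem isCompact_of_section {Z : Scheme.{u}} (B : Pair S) (V : Z.Opens)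
    (t : (B.U : Scheme.{u}) ⟶ Z) (htU : Set.range t.base = V) : IsCompact (V : Set Z) := by
  rw [← htU]
  have : CompactSpace (B.U : Scheme.{u}) := isCompact_iff_compactSpace.1 B.isCompact
  exact isCompact_range t.base.hom.continuous

instance isMultiplicative : (isoOpen S).IsMultiplicative where
  id_mem A := by rw [isoOpen_iff, restr_id]; infer_instance
  comp_mem f g hf hg := by
    rw [isoOpen_iff] at hf hg ⊢
    rw [restr_comp]
    infer_instance

theorem inv_restr_ι {A B : Pair S} (f : A ⟶ B) [IsIso (restr f)] :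
    (inv (restr f) ≫ A.U.ι) ≫ sch f = B.U.ι := by
  rw [Category.assoc, ← restr_ι, IsIso.inv_hom_id_assoc]

/-- Completion of a cospan. -/
theorem exists_square {X Y Z : Pair S} (f : X ⟶ Z) (s : Y ⟶ Z) (hs : isoOpen S s) :
    ∃ (W : Pair S) (t : W ⟶ X) (g : W ⟶ Y), isoOpen S t ∧ t ≫ f = g ≫ s := by
  have hs' : IsIso (restr s) := hs
  let P := pullback (sch f) (sch s)
  let p1 : P ⟶ X.bar.left := pullback.fst _ _
  let p2 : P ⟶ Y.bar.left := pullback.snd _ _
  have hp : p1 ≫ sch f = p2 ≫ sch s := pullback.condition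
  let V : P.Opens := p1 ⁻¹ᵁ X.U ⊓ p2 ⁻¹ᵁ Y.U
  have hXp : IsProper X.bar.hom := X.isProper
  have hYp : IsProper Y.bar.hom := Y.isProper
  have hZp : IsProper Z.bar.hom := Z.isProper
  have hsp : IsProper (sch s) := by
    have : IsProper (sch s ≫ Z.bar.hom) := by rw [sch_w]; infer_instance
    exact IsProper.of_comp _ Z.bar.hom
  have hp1 : IsProper p1 := inferInstanceAs (IsProper (pullback.fst _ _))
  -- the section over X.U
  let t : (X.U : Scheme.{u}) ⟶ P := pullback.lift X.U.ι (restr f ≫ inv (restr s) ≫ Y.U.ι) (by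
    rw [Category.assoc, inv_restr_ι, restr_ι])
  have ht1 : t ≫ p1 = X.U.ι := pullback.lift_fst _ _ _
  have ht2 : t ≫ p2 = restr f ≫ inv (restr s) ≫ Y.U.ι := pullback.lift_snd _ _ _
  have htV : ∀ x, t.base x ∈ V := by
    intro x
    constructor
    · change p1.base (t.base x) ∈ X.U
      have : p1.base (t.base x) = X.U.ι.base x := by rw [← ht1]; rfl
      rw [this]
      exact x.2
    · change p2.base (t.base x) ∈ Y.U
      have : p2.base (t.base x) = Y.U.ι.base ((restr f ≫ inv (restr s)).base x) := by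
        have := congrArg (fun m => m.base x) ht2
        simpa using this
      rw [this]
      exact ((restr f ≫ inv (restr s)).base x).2
  -- points of V are in the image of t
  have key : V.ι ≫ p1 = V.ι ≫ p1 := rfl
  let V1 : (V : Scheme.{u}) ⟶ (X.U : Scheme.{u}) := p1.resLE X.U V inf_le_left
  let V2 : (V : Scheme.{u}) ⟶ (Y.U : Scheme.{u}) := p2.resLE Y.U V inf_le_right
  have hV1 : V1 ≫ X.U.ι = V.ι ≫ p1 := Scheme.Hom.resLE_comp_ι _ _
  have hV2 : V2 ≫ Y.U.ι = V.ι ≫ p2 := Scheme.Hom.resLE_comp_ι _ _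
  have hV12 : V1 ≫ restr f = V2 ≫ restr s := by
    rw [← cancel_mono Z.U.ι, Category.assoc, Category.assoc, restr_ι, restr_ι, reassoc_of% hV1,
      reassoc_of% hV2, hp]
  have hV1t : V1 ≫ t = V.ι := by
    apply pullback.hom_ext
    · change (V1 ≫ t) ≫ p1 = V.ι ≫ p1
      rw [Category.assoc, ht1, hV1]
    · change (V1 ≫ t) ≫ p2 = V.ι ≫ p2
      rw [Category.assoc, ht2, reassoc_of% hV12, IsIso.hom_inv_id_assoc, hV2]
  have hrange : Set.range t.base = V := by
    apply Set.Subset.antisymm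
    · rintro _ ⟨x, rfl⟩
      exact htV x
    · intro y hy
      refine ⟨V1.base ⟨y, hy⟩, ?_⟩
      exact congrArg (fun m => m.base (⟨y, hy⟩ : V)) hV1t
  let W : Pair S :=
    { bar := Over.mk (p1 ≫ X.bar.hom)
      U := V
      isProper := inferInstanceAs (IsProper (p1 ≫ X.bar.hom))
      isCompact := isCompact_of_section X V t hrange }
  let a : W ⟶ X := mkHom (A := W) (B := X) p1 rfl (fun x hx => hx.1)
  let b : W ⟶ Y := mkHom (A := W) (B := Y) p2 (by
      change p2 ≫ Y.bar.hom = p1 ≫ X.bar.hom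
      rw [← sch_w s, ← sch_w f, reassoc_of% hp]) (fun x hx => hx.2)
  refine ⟨W, a, b, ?_, hom_ext hp⟩
  refine isoOpen_of_section a t ht1 htV ?_
  have : restr a = V1 := by
    rw [← cancel_mono X.U.ι, restr_ι, hV1]
    rfl
  rw [this, hV1t]

/-- Two morphisms which agree on the open part are equalized by an element of `isoOpen`. -/
theorem exists_equalizer {X Y : Pair S} (f g : X ⟶ Y) (h : restr f = restr g) :
    ∃ (W : Pair S) (t : W ⟶ X), isoOpen S t ∧ t ≫ f = t ≫ g := by
  have hXp : IsProper X.bar.hom := X.isProper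
  have hYp : IsProper Y.bar.hom := Y.isProper
  let E := equalizer (Pair.Hom.bar f) (Pair.Hom.bar g)
  let i : E ⟶ X.bar := equalizer.ι (Pair.Hom.bar f) (Pair.Hom.bar g)
  have hi : IsClosedImmersion i.left := inferInstanceAs
    (IsClosedImmersion (equalizer.ι (Pair.Hom.bar f) (Pair.Hom.bar g)).left)
  have hU : X.U.ι ≫ sch f = X.U.ι ≫ sch g := by rw [← restr_ι, ← restr_ι, h]
  let t₀ : Over.mk (X.U.ι ≫ X.bar.hom) ⟶ E := equalizer.lift (Over.homMk X.U.ι rfl) (by
    ext1
    exact hU)
  let t : (X.U : Scheme.{u}) ⟶ E.left := t₀.left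
  have ht : t ≫ i.left = X.U.ι := by
    have : t₀ ≫ i = Over.homMk X.U.ι rfl := equalizer.lift_ι _ _
    exact congrArg (fun m => m.left) this
  let V : E.left.Opens := i.left ⁻¹ᵁ X.U
  let V1 : (V : Scheme.{u}) ⟶ (X.U : Scheme.{u}) := i.left.resLE X.U V le_rfl
  have hV1 : V1 ≫ X.U.ι = V.ι ≫ i.left := Scheme.Hom.resLE_comp_ι _ _
  have hV1t : V1 ≫ t = V.ι := by
    rw [← cancel_mono i.left, Category.assoc, ht, hV1]
  have htV : ∀ x, t.base x ∈ V := by
    intro x
    change i.left.base (t.base x) ∈ X.U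
    have : i.left.base (t.base x) = X.U.ι.base x := by rw [← ht]; rfl
    rw [this]
    exact x.2
  have hrange : Set.range t.base = V := by
    apply Set.Subset.antisymm
    · rintro _ ⟨x, rfl⟩
      exact htV x
    · intro y hy
      refine ⟨V1.base ⟨y, hy⟩, ?_⟩
      exact congrArg (fun m => m.base (⟨y, hy⟩ : V)) hV1t
  have hE : IsProper E.hom := by
    rw [← Over.w i]
    infer_instance
  let W : Pair S :=
    { bar := E
      U := V
      isProper := hE
      isCompact := isCompact_of_section X V t hrange }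
  let a : W ⟶ X := mkHom (A := W) (B := X) i.left (Over.w i) (fun x hx => hx)
  refine ⟨W, a, ?_, ?_⟩
  · refine isoOpen_of_section a t ht htV ?_
    have : restr a = V1 := by
      rw [← cancel_mono X.U.ι, restr_ι, hV1]
      rfl
    rw [this, hV1t]
  · apply Pair.Hom.ext
    exact equalizer.condition (Pair.Hom.bar f) (Pair.Hom.bar g)

instance hasRightCalculusOfFractions : (isoOpen S).HasRightCalculusOfFractions where
  exists_rightFraction X Y φ := by
    obtain ⟨W, t, g, ht, h⟩ := exists_square φ.f φ.s φ.hs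
    exact ⟨⟨t, ht, g⟩, h⟩
  ext X Y Y' f₁ f₂ s hs h := by
    have hs' : IsIso (restr s) := hs
    obtain ⟨W, t, ht, h'⟩ := exists_equalizer f₁ f₂ (by
      rw [← cancel_mono (restr s), ← restr_comp, ← restr_comp, h])
    exact ⟨W, t, ht, h'⟩

end K576.Calc
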