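import Groth.Agent.Cpct.K576.Calc
import Mathlib.CategoryTheory.Localization.Predicate
import Mathlib.CategoryTheory.Localization.CalculusOfFractions

/-!
# The open part functor is a localization functor
-/

set_option autoImplicit false
universe u v₁ v₂ u₁ u₂
open CategoryTheory CategoryTheory.Limits AlgebraicGeometry

namespace K576.Loc

/-- A criterion for a functor to be a localization functor in presence of a calculus of right fractions. -/
theorem isLocalization_of_rightCalculus {C : Type u₁} [Category.{v₁} C] {D : Type u₂}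
    [Category.{v₂} D] (F : C ⥤ D) (W : MorphismProperty C) [W.HasRightCalculusOfFractions]
    (hinv : W.IsInvertedBy F) (hess : F.EssSurj)
    (hfull : ∀ (X Y : C) (g : F.obj X ⟶ F.obj Y), ∃ (X' : C) (s : X' ⟶ X) (_ : W s) (f : X' ⟶ Y),
      F.map f = F.map s ≫ g)
    (hfaith : ∀ (X Y : C) (f g : X ⟶ Y), F.map f = F.map g →
      ∃ (X' : C) (s : X' ⟶ X) (_ : W s), s ≫ f = s ≫ g) : F.IsLocalization W := by
  let G : W.Localization ⥤ D := Localization.Construction.lift F hinv
  have hG : W.Q ⋙ G = F := Localization.Construction.fac F hinv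
  let e : W.Q ⋙ G ≅ F := eqToIso hG
  have hQi : ∀ {X Y : C} (s : X ⟶ Y), W s → IsIso (W.Q.map s) := fun s hs => W.Q_inverts s hs
  have hGQ : ∀ {X Y : C} (f : X ⟶ Y), G.map (W.Q.map f) = e.hom.app X ≫ F.map f ≫ e.inv.app Y := by
    intro X Y f
    have := e.hom.naturality f
    rw [← Category.assoc, ← this]
    simp
  have h1 : G.EssSurj := ⟨fun d => ⟨W.Q.obj (F.objPreimage d),
    ⟨e.app _ ≪≫ F.objObjPreimageIso d⟩⟩⟩
  have h2' : ∀ (X Y : C) (g : G.obj (W.Q.obj X) ⟶ G.obj (W.Q.obj Y)), ∃ a, G.map a = g := by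
    intro X Y g
    obtain ⟨X', s, hs, f, hf⟩ := hfull X Y (e.inv.app X ≫ g ≫ e.hom.app Y)
    have hsi : IsIso (W.Q.map s) := hQi s hs
    refine ⟨inv (W.Q.map s) ≫ W.Q.map f, ?_⟩
    rw [G.map_comp, Functor.map_inv, IsIso.inv_comp_eq, hGQ, hGQ, hf]
    simp
  have h2 : G.Full := ⟨fun {X Y} g => by
    obtain ⟨X, rfl⟩ := (Localization.Construction.objEquiv W).surjective X
    obtain ⟨Y, rfl⟩ := (Localization.Construction.objEquiv W).surjective Y
    exact h2' X Y g⟩
  have h3' : ∀ (X Y : C) (a b : W.Q.obj X ⟶ W.Q.obj Y), G.map a = G.map b → a = b := by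
    intro X Y a b hab
    obtain ⟨φ, hφ⟩ := Localization.exists_rightFraction W.Q W a
    obtain ⟨ψ, hψ⟩ := Localization.exists_rightFraction W.Q W (W.Q.map φ.s ≫ b)
    have ha : W.Q.map φ.s ≫ a = W.Q.map φ.f := by
      rw [hφ, MorphismProperty.RightFraction.map_s_comp_map]
    have hb : W.Q.map ψ.s ≫ W.Q.map φ.s ≫ b = W.Q.map ψ.f := by
      rw [hψ, MorphismProperty.RightFraction.map_s_comp_map]
    have hF : F.map (ψ.s ≫ φ.f) = F.map ψ.f := by
      have h4 : G.map (W.Q.map (ψ.s ≫ φ.f)) = G.map (W.Q.map ψ.f) := by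
        rw [← hb, W.Q.map_comp, ← ha, G.map_comp, G.map_comp, G.map_comp, G.map_comp, hab]
      rw [hGQ, hGQ, cancel_epi, cancel_mono] at h4
      exact h4
    obtain ⟨X', s, hs, hs'⟩ := hfaith _ _ _ _ hF
    have h5 : W.Q.map (ψ.s ≫ φ.f) = W.Q.map ψ.f := by
      have := hQi s hs
      rw [← cancel_epi (W.Q.map s), ← W.Q.map_comp, ← W.Q.map_comp, hs']
    have h6 := hQi φ.s φ.hs
    have h7 := hQi ψ.s ψ.hs
    rw [← cancel_epi (W.Q.map φ.s), ← cancel_epi (W.Q.map ψ.s), hb, ha, ← h5, W.Q.map_comp]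
  have h3 : G.Faithful := ⟨fun {X Y} a b hab => by
    obtain ⟨X, rfl⟩ := (Localization.Construction.objEquiv W).surjective X
    obtain ⟨Y, rfl⟩ := (Localization.Construction.objEquiv W).surjective Y
    exact h3' X Y a b hab⟩
  exact ⟨hinv, { faithful := h3, full := h2, essSurj := h1 }⟩

open Cpct Calc

variable (S : Scheme.{u})

theorem openOver_map_left {A B : Pair S} (f : A ⟶ B) : (openOver.map f).left = restr f := rfl

theorem isInvertedBy : (isoOpen S).IsInvertedBy (openFunctor S) := by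
  intro A B f hf
  have hf' : IsIso (restr f) := hf
  have : IsIso (openOver.map f) := by
    have : IsIso ((Over.forget S).map (openOver.map f)) := hf'
    exact isIso_of_reflects_iso _ (Over.forget S)
  have : IsIso ((ObjectProperty.ι (IsCompactifyable S)).map ((openFunctor S).map f)) := this
  exact isIso_of_reflects_iso _ (ObjectProperty.ι (IsCompactifyable S))

theorem essSurj : (openFunctor S).EssSurj where
  mem_essImage X := by
    obtain ⟨A, ⟨e⟩⟩ := X.property
    exact ⟨A, ⟨(ObjectProperty.fullyFaithfulι (IsCompactifyable S)).preimageIso e⟩⟩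

/-- The closure of the graph. -/
theorem exists_graph [CompactSpace S] [QuasiSeparatedSpace S] (X Y : Pair S)
    (g : (X.U : Scheme.{u}) ⟶ (Y.U : Scheme.{u}))
    (hg : g ≫ Y.U.ι ≫ Y.bar.hom = X.U.ι ≫ X.bar.hom) :
    ∃ (W : Pair S) (s : W ⟶ X) (f : W ⟶ Y), isoOpen S s ∧ restr f = restr s ≫ g := by
  have hXp : IsProper X.bar.hom := X.isProper
  have hYp : IsProper Y.bar.hom := Y.isProper
  have hXc : CompactSpace (X.U : Scheme.{u}) := isCompact_iff_compactSpace.1 X.isCompact
  have hXq : QuasiSeparatedSpace X.bar.left :=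
    AlgebraicGeometry.quasiSeparatedSpace_of_quasiSeparated X.bar.hom
  let P := pullback X.bar.hom Y.bar.hom
  let p1 : P ⟶ X.bar.left := pullback.fst _ _
  let p2 : P ⟶ Y.bar.left := pullback.snd _ _
  have hp : p1 ≫ X.bar.hom = p2 ≫ Y.bar.hom := pullback.condition
  have hp1 : IsProper p1 := inferInstanceAs (IsProper (pullback.fst _ _))
  let Γ : (X.U : Scheme.{u}) ⟶ P := pullback.lift X.U.ι (g ≫ Y.U.ι) (by rw [Category.assoc, hg])
  have hΓ1 : Γ ≫ p1 = X.U.ι := pullback.lift_fst _ _ _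
  have hΓ2 : Γ ≫ p2 = g ≫ Y.U.ι := pullback.lift_snd _ _ _
  have hΓi : IsImmersion Γ := by
    have : IsImmersion (Γ ≫ p1) := by rw [hΓ1]; infer_instance
    exact IsImmersion.of_comp Γ p1
  have hΓc : QuasiCompact Γ := by
    have : QuasiCompact (Γ ≫ p1) := by rw [hΓ1]; infer_instance
    exact QuasiCompact.of_comp Γ p1
  let Z := Γ.image
  let i : Z ⟶ P := Γ.imageι
  let t : (X.U : Scheme.{u}) ⟶ Z := Γ.toImage
  have ht : t ≫ i = Γ := Γ.toImage_imageι
  have hto : IsOpenImmersion t := inferInstanceAs (IsOpenImmersion Γ.toImage)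
  let V : Z.Opens := t.opensRange
  let q1 : Z ⟶ X.bar.left := i ≫ p1
  let q2 : Z ⟶ Y.bar.left := i ≫ p2
  have htq1 : t ≫ q1 = X.U.ι := by rw [← Category.assoc, ht, hΓ1]
  have htq2 : t ≫ q2 = g ≫ Y.U.ι := by rw [← Category.assoc, ht, hΓ2]
  let W : Pair S :=
    { bar := Over.mk (q1 ≫ X.bar.hom)
      U := V
      isProper := inferInstanceAs (IsProper ((i ≫ p1) ≫ X.bar.hom))
      isCompact := isCompact_of_section X V t rfl }
  let a : W ⟶ X := mkHom (A := W) (B := X) q1 rfl (by
    rintro _ ⟨x, rfl⟩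
    have : q1.base (t.base x) = X.U.ι.base x := by rw [← htq1]; rfl
    change q1.base (t.base x) ∈ X.U
    rw [this]
    exact x.2)
  let b : W ⟶ Y := mkHom (A := W) (B := Y) q2 (by
      change (i ≫ p2) ≫ Y.bar.hom = (i ≫ p1) ≫ X.bar.hom
      rw [Category.assoc, Category.assoc, hp]) (by
    rintro _ ⟨x, rfl⟩
    have : q2.base (t.base x) = Y.U.ι.base (g.base x) :=
      congrArg (fun m => m.base x) htq2
    change q2.base (t.base x) ∈ Y.U
    rw [this]
    exact (g.base x).2)
  let t' : (X.U : Scheme.{u}) ⟶ (V : Scheme.{u}) := IsOpenImmersion.lift V.ι t (by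
    rw [Scheme.Opens.range_ι]
    rfl)
  have ht' : t' ≫ V.ι = t := IsOpenImmersion.lift_fac _ _ _
  have ht'i : IsIso t' := by
    have : IsOpenImmersion (t' ≫ V.ι) := by rw [ht']; infer_instance
    have h1 : IsOpenImmersion t' := IsOpenImmersion.of_comp t' V.ι
    have : Function.Surjective t'.base := by
      rintro ⟨_, ⟨x, rfl⟩⟩
      refine ⟨x, ?_⟩
      apply V.ι.isOpenEmbedding.injective
      exact congrArg (fun m => m.base x) ht'
    have : Epi t'.base := (TopCat.epi_iff_surjective _).2 this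
    exact IsOpenImmersion.isIso t'
  have hr : t' ≫ restr a = 𝟙 _ := by
    rw [← cancel_mono X.U.ι, Category.assoc, restr_ι]
    change t' ≫ V.ι ≫ q1 = 𝟙 _ ≫ X.U.ι
    rw [← Category.assoc, ht', htq1, Category.id_comp]
  have hri : restr a = inv t' := by
    rw [← cancel_epi t', hr, IsIso.hom_inv_id]
  refine ⟨W, a, b, ?_, ?_⟩
  · rw [isoOpen_iff, hri]
    infer_instance
  · rw [hri, IsIso.eq_inv_comp, ← cancel_mono Y.U.ι, Category.assoc, restr_ι]
    change t' ≫ V.ι ≫ q2 = g ≫ Y.U.ι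
    rw [← Category.assoc, ht', htq2]

theorem isLocalization [CompactSpace S] [QuasiSeparatedSpace S] :
    (openFunctor S).IsLocalization (isoOpen S) := by
  refine isLocalization_of_rightCalculus (openFunctor S) (isoOpen S) (isInvertedBy S) (essSurj S) ?_ ?_
  · intro X Y g
    let g' : openOver.obj X ⟶ openOver.obj Y := g.hom
    obtain ⟨W, s, f, hs, hf⟩ := exists_graph S X Y g'.left (Over.w g')
    refine ⟨W, s, hs, f, ?_⟩
    apply ObjectProperty.hom_ext
    ext1
    exact hf
  · intro X Y f g h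
    obtain ⟨W, t, ht, h'⟩ := exists_equalizer f g (congrArg (fun m => m.hom.left) h)
    exact ⟨W, t, ht, h'⟩

end K576.Loc
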