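import Mathlib.AlgebraicGeometry.Morphisms.Proper

/-!
# Preimages of the open part of a compactification
-/

set_option autoImplicit false
universe u
open CategoryTheory AlgebraicGeometry

namespace K576.Preimage

/-- Let `j : X ⟶ Xb` be a dense open immersion, `v : Y ⟶ Yb` an open immersion, `f : X ⟶ Y`
universally closed and `fb : Xb ⟶ Yb` separated with `j ≫ fb = f ≫ v`.  Then the preimage of `Y` is `X`. -/
theorem preimage_opensRange {X Y Xb Yb : Scheme.{u}} (j : X ⟶ Xb) [IsOpenImmersion j]
    (hj : Dense (Set.range j.base)) (v : Y ⟶ Yb) [IsOpenImmersion v] (f : X ⟶ Y)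
    [IsProper f] (fb : Xb ⟶ Yb) [IsSeparated fb] (hsq : j ≫ fb = f ≫ v) :
    fb ⁻¹ᵁ v.opensRange = j.opensRange := by
  let W := fb ⁻¹ᵁ v.opensRange
  have hjW : ∀ x, j.base x ∈ W := by
    intro x
    change fb.base (j.base x) ∈ Set.range v.base
    refine ⟨f.base x, ?_⟩
    have := congrArg (fun m => m.base x) hsq
    simpa using this.symm
  have hWr : Set.range (W.ι ≫ fb).base ⊆ Set.range v.base := by
    rintro _ ⟨x, rfl⟩
    exact x.2
  let g : (W : Scheme.{u}) ⟶ Y := IsOpenImmersion.lift v (W.ι ≫ fb) hWr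
  have hg : g ≫ v = W.ι ≫ fb := IsOpenImmersion.lift_fac _ _ _
  have hjr : Set.range j.base ⊆ Set.range W.ι.base := by
    rintro _ ⟨x, rfl⟩
    rw [Scheme.Opens.range_ι]
    exact hjW x
  let j' : X ⟶ (W : Scheme.{u}) := IsOpenImmersion.lift W.ι j hjr
  have hj' : j' ≫ W.ι = j := IsOpenImmersion.lift_fac _ _ _
  have hj'g : j' ≫ g = f := by
    rw [← cancel_mono v, Category.assoc, hg, ← Category.assoc, hj', hsq]
  have : IsSeparated (g ≫ v) := by rw [hg]; infer_instance
  have hgs : IsSeparated g := IsSeparated.of_comp g v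
  have : IsProper (j' ≫ g) := by rw [hj'g]; infer_instance
  have hj'p : IsProper j' := IsProper.of_comp j' g
  have hcl : IsClosed (Set.range j'.base) := j'.isClosedMap.isClosed_range
  have hd : Dense (Set.range j'.base) := by
    have h1 : Set.range j'.base = W.ι.base ⁻¹' (Set.range j.base) := by
      ext x
      constructor
      · rintro ⟨y, rfl⟩
        exact ⟨y, by rw [← hj']; rfl⟩
      · rintro ⟨y, hy⟩
        refine ⟨y, ?_⟩
        apply W.ι.isOpenEmbedding.injective
        rw [← hy]
        conv_rhs => rw [← hj']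
        rfl
    rw [h1]
    exact hj.preimage W.ι.isOpenEmbedding.isOpenMap
  have hsurj : Set.range j'.base = Set.univ := by
    rw [← hcl.closure_eq]
    exact hd.closure_eq
  apply le_antisymm
  · intro x hx
    obtain ⟨y, hy⟩ : (⟨x, hx⟩ : W) ∈ Set.range j'.base := by rw [hsurj]; trivial
    refine ⟨y, ?_⟩
    rw [← hj']
    change W.ι.base (j'.base y) = x
    rw [hy]
    rfl
  · rintro _ ⟨x, rfl⟩
    exact hjW x

end K576.Preimage
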